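import Mathlib
import Groth.Agent.UnibranchConn.Local
import Groth.Agent.GeomRedPtLib.Basic

/-!
# Connectedness of complements in schemes over geometrically unibranch bases
-/

set_option autoImplicit false
set_option linter.style.haveILetI false
set_option backward.isDefEq.respectTransparency false

universe u

open TensorProduct IsLocalRing CategoryTheory CategoryTheory.Limits AlgebraicGeometry TopologicalSpace Topology

namespace Groth.Agent.UnibranchConn

variable {X Y : Scheme.{u}}

/-- The map of local rings of a morphism with geometrically reduced fibres has reduced fibre rings. -/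
theorem isReduced_stalk_tensor (f : X ⟶ Y) [GeometricallyReduced f] (x : X) (L : Type u) [Field L]
    [Algebra (Y.presheaf.stalk (f x)) L] :
    letI := (f.stalkMap x).hom.toAlgebra
    _root_.IsReduced (X.presheaf.stalk x ⊗[Y.presheaf.stalk (f x)] L) := by
  letI := (f.stalkMap x).hom.toAlgebra
  let Oy := Y.presheaf.stalk (f x)
  let Ox := X.presheaf.stalk x
  let φ := Spec.map (f.stalkMap x)
  let z : Spec (CommRingCat.of L) ⟶ Spec Oy := Spec.map (CommRingCat.ofHom (algebraMap Oy L))
  let m := Y.fromSpecStalk (f x)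
  let zY := z ≫ m
  have hsq0 : IsPullback (𝟙 (Spec Ox)) φ (φ ≫ m) m :=
    ⟨⟨by simp [φ]⟩, ⟨PullbackCone.IsLimit.mk _ (fun s => s.fst) (fun s => Category.comp_id _)
      (fun s => by rw [← cancel_mono m, Category.assoc]; exact s.condition)
      (fun s r h₁ h₂ => by simpa using h₁)⟩⟩
  have h1 : IsPullback (pullback.fst φ z ≫ 𝟙 (Spec Ox)) (pullback.snd φ z) (φ ≫ m) zY :=
    (IsPullback.of_hasPullback φ z).paste_horiz hsq0
  rw [show φ ≫ m = X.fromSpecStalk x ≫ f from Scheme.SpecMap_stalkMap_fromSpecStalk f (x := x), Category.comp_id] at h1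
  let Q := pullback f zY
  let j : pullback φ z ⟶ Q := pullback.lift (pullback.fst φ z ≫ X.fromSpecStalk x) (pullback.snd φ z) (by
    rw [Category.assoc]; exact h1.w)
  have hj : IsPullback (pullback.fst φ z) j (X.fromSpecStalk x) (pullback.fst f zY) :=
    IsPullback.of_bot (v₂₁ := pullback.snd f zY) (by rw [pullback.lift_snd]; exact h1)
      (pullback.lift_fst _ _ _).symm (IsPullback.of_hasPullback f zY)
  haveI : AlgebraicGeometry.IsReduced Q :=
    GeometricallyReduced.geometrically_isReduced (f := f) zY _ _ (IsPullback.of_hasPullback f zY)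
  haveI : IsPreimmersion j := MorphismProperty.of_isPullback (P := @IsPreimmersion) hj inferInstance
  haveI : Flat j := MorphismProperty.of_isPullback (P := @Flat) hj (GeomRedPtLib.flat_fromSpecStalk' x)
  haveI : AlgebraicGeometry.IsReduced (pullback φ z) := by
    haveI : ∀ v : ↥(pullback φ z), _root_.IsReduced ((pullback φ z).presheaf.stalk v) := fun v =>
      (GeomRedPtLib.isReduced_stalk_iff_of_preimmersion j v).2 inferInstance
    exact isReduced_of_isReduced_stalk _
  haveI : AlgebraicGeometry.IsReduced (Spec (CommRingCat.of (Ox ⊗[Oy] L))) :=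
    isReduced_of_isOpenImmersion (pullbackSpecIso Oy Ox L).inv
  exact (affine_isReduced_iff _).1 this

/-- A closed set missing generic points, with connected local complements, has connected complement. -/
theorem isPreconnected_compl_of_local [IsLocallyNoetherian X] [PreconnectedSpace X] {T : Set X} (hT : IsClosed T)
    (hne : ∀ x ∈ T, ∃ d : X, d ⤳ x ∧ d ∉ T)
    (hloc : ∀ x ∈ T, _root_.IsPreconnected ((X.fromSpecStalk x) ⁻¹' Tᶜ)) : _root_.IsPreconnected Tᶜ := by
  rw [isPreconnected_iff_subset_of_disjoint]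
  intro u v hu hv huv hdis
  by_contra hcon
  rw [not_or, Set.not_subset, Set.not_subset] at hcon
  obtain ⟨⟨a, ha, hau⟩, ⟨b, hb, hbv⟩⟩ := hcon
  let U := u ∩ Tᶜ
  let V := v ∩ Tᶜ
  have hdense : closure U ∪ closure V = Set.univ := Set.eq_univ_of_forall fun x => by
    obtain ⟨d, hd, hdT⟩ : ∃ d : X, d ⤳ x ∧ d ∉ T := by
      by_cases hx : x ∈ T
      · exact hne x hx
      · exact ⟨x, specializes_rfl, hx⟩
    rcases huv hdT with h | h
    · exact Or.inl (closure_mono (Set.singleton_subset_iff.2 (show d ∈ U from ⟨h, hdT⟩)) hd.mem_closure)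
    · exact Or.inr (closure_mono (Set.singleton_subset_iff.2 (show d ∈ V from ⟨h, hdT⟩)) hd.mem_closure)
  have hbU : b ∈ U := ⟨(huv hb).resolve_right hbv, hb⟩
  have haV : a ∈ V := ⟨(huv ha).resolve_left hau, ha⟩
  obtain ⟨x, -, hxU, hxV⟩ := isPreconnected_closed_iff.1 (isPreconnected_univ (α := X)) (closure U) (closure V)
    isClosed_closure isClosed_closure hdense.ge ⟨b, trivial, subset_closure hbU⟩ ⟨a, trivial, subset_closure haV⟩
  have hxT : x ∈ T := by
    by_contra hx
    rcases huv hx with h | h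
    · obtain ⟨w, hwu, hw⟩ := mem_closure_iff.1 hxV u hu h
      exact Set.eq_empty_iff_forall_notMem.1 hdis w ⟨hw.2, hwu, hw.1⟩
    · obtain ⟨w, hwv, hw⟩ := mem_closure_iff.1 hxU v hv h
      exact Set.eq_empty_iff_forall_notMem.1 hdis w ⟨hw.2, hw.1, hwv⟩
  have key : ∀ {O : Set X}, IsOpen O → x ∈ closure O → ∃ q, X.fromSpecStalk x q ∈ O := fun {O} hO hx => by
    obtain ⟨W, hW, hxW, -⟩ := exists_isAffineOpen_mem_and_subset (X := X) (x := x) (U := ⊤) trivial
    obtain ⟨w, hw⟩ : (O ∩ (W : Set X)).Nonempty := by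
      rw [Set.inter_comm]
      exact mem_closure_iff.1 hx W W.2 hxW
    by_contra hq
    rw [not_exists] at hq
    haveI : IsAffine W.toScheme := hW
    haveI : IsLocallyNoetherian W.toScheme := isLocallyNoetherian_of_isOpenImmersion W.ι
    haveI : IsNoetherian W.toScheme := ⟨⟩
    let O' : Set W.toScheme := W.ι ⁻¹' O
    let O'' : Opens W.toScheme := ⟨O', hO.preimage W.ι.continuous⟩
    haveI : NoetherianSpace ↥O'' := (O''.2.isOpenEmbedding_subtypeVal).isEmbedding.isInducing.noetherianSpace
    have hfin := NoetherianSpace.finite_irreducibleComponents (α := ↥O'')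
    have hgen : ∀ C : irreducibleComponents ↥O'', ∃ η : W.toScheme, η ∈ O' ∧ Subtype.val '' C.1 ⊆ closure {η} := by
      intro C
      haveI : QuasiSober ↥O'' := Topology.IsOpenEmbedding.quasiSober O''.2.isOpenEmbedding_subtypeVal
      obtain ⟨η, hη⟩ := QuasiSober.sober C.2.1 (isClosed_of_mem_irreducibleComponents _ C.2)
      exact ⟨η.1, η.2, by
        rw [← hη.def]
        exact (image_closure_subset_closure_image continuous_subtype_val).trans (by rw [Set.image_singleton])⟩
    choose η hηO hηC using hgen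
    have hx' : (⟨x, hxW⟩ : W.toScheme) ∈ closure O' := by
      rw [W.ι.isOpenEmbedding.isEmbedding.closure_eq_preimage_closure_image, Set.mem_preimage,
        Set.image_preimage_eq_inter_range, Scheme.Opens.range_ι]
      exact closure_mono (Set.inter_comm _ _).le (W.isOpen.inter_closure ⟨hxW, hx⟩)
    have hsub : O' ⊆ ⋃ C, closure {η C} := fun o ho => Set.mem_iUnion.2
      ⟨⟨_, irreducibleComponent_mem_irreducibleComponents (⟨o, ho⟩ : ↥O'')⟩,
        hηC _ ⟨⟨o, ho⟩, mem_irreducibleComponent, rfl⟩⟩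
    haveI := hfin.to_subtype
    have hcl : IsClosed (⋃ C, closure {η C}) := isClosed_iUnion_of_finite fun _ => isClosed_closure
    obtain ⟨C, hC⟩ := Set.mem_iUnion.1 ((hcl.closure_subset_iff.2 hsub) hx')
    have hs : W.ι (η C) ⤳ x := (specializes_iff_mem_closure.2 hC).map W.ι.continuous
    obtain ⟨q, hqe⟩ : W.ι (η C) ∈ Set.range (X.fromSpecStalk x) := by rw [Scheme.range_fromSpecStalk]; exact hs
    exact hq q (hqe ▸ hηO C)
  obtain ⟨p, hp⟩ := key (hu.inter hT.isOpen_compl) hxU
  obtain ⟨q, hq⟩ := key (hv.inter hT.isOpen_compl) hxV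
  have himg := (hloc x hxT).image _ (X.fromSpecStalk x).continuous.continuousOn
  obtain ⟨_, ⟨w, hw, rfl⟩, hwu, hwv⟩ := himg u v hu hv
    (fun _ ⟨w, hw, e⟩ => e ▸ huv hw) ⟨_, ⟨p, hp.2, rfl⟩, hp.1⟩ ⟨_, ⟨q, hq.2, rfl⟩, hq.1⟩
  exact Set.eq_empty_iff_forall_notMem.1 hdis _ ⟨hw, hwu, hwv⟩

/-- A point of a nowhere dense set has a proper generalisation. -/
theorem exists_ne_specializes [IsLocallyNoetherian Y] {S : Set Y} (hS : interior (closure S) = ∅) {y₀ : Y} (h : y₀ ∈ S) :
    ∃ y' : Y, y' ⤳ y₀ ∧ y' ≠ y₀ := by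
  by_contra hcon
  rw [not_exists] at hcon
  obtain ⟨W, hW, hyW, -⟩ := exists_isAffineOpen_mem_and_subset (X := Y) (x := y₀) (U := ⊤) trivial
  haveI : IsAffine W.toScheme := hW
  haveI : IsLocallyNoetherian W.toScheme := isLocallyNoetherian_of_isOpenImmersion W.ι
  haveI : IsNoetherian W.toScheme := ⟨⟩
  let w₀ : W.toScheme := ⟨y₀, hyW⟩
  let C := irreducibleComponent w₀
  have hC := irreducibleComponent_mem_irreducibleComponents w₀
  obtain ⟨η, hη⟩ := QuasiSober.sober hC.1 (isClosed_of_mem_irreducibleComponents _ hC)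
  have he : W.ι η = y₀ := by
    by_contra hne
    exact hcon _ ⟨(hη.specializes mem_irreducibleComponent).map W.ι.continuous, hne⟩
  obtain ⟨o, ho, hne, hoC⟩ := NoetherianSpace.exists_isOpen_nonempty_subset_irreducibleComponent (C : Set W.toScheme) hC
  have hsub : W.ι '' o ⊆ closure S := by
    rintro _ ⟨w, hw, rfl⟩
    have h1 : W.ι η ⤳ W.ι w := (hη.specializes (hoC hw)).map W.ι.continuous
    rw [he] at h1
    exact closure_mono (Set.singleton_subset_iff.2 h) h1.mem_closure
  have := interior_maximal hsub (W.ι.isOpenEmbedding.isOpenMap o ho)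
  rw [hS, Set.subset_empty_iff, Set.image_eq_empty] at this
  exact hne.ne_empty this

/-- Flat morphisms with geometrically reduced fibres over geometrically unibranch schemes: complements of closed sets
with nowhere dense image are connected. -/
theorem isConnected_compl_global [IsLocallyNoetherian X] [IsLocallyNoetherian Y] [ConnectedSpace ↥X]
    (hY : ∀ y : Y, CAlg2.IsGeomUnibranch (Y.presheaf.stalk y)) (f : X ⟶ Y) [Flat f] [GeometricallyReduced f]
    (T : Set ↥X) (hT : IsClosed T) (hT' : interior (closure (f '' T)) = ∅) : _root_.IsConnected Tᶜ := by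
  have hmiss : ∀ (x : X) (q : PrimeSpectrum (X.presheaf.stalk x)), X.fromSpecStalk x q ∈ T →
      (PrimeSpectrum.comap (f.stalkMap x).hom q).asIdeal ≠ nilradical (Y.presheaf.stalk (f x)) := by
    intro x q hq h
    have hfq : Y.fromSpecStalk (f x) (PrimeSpectrum.comap (f.stalkMap x).hom q) = f (X.fromSpecStalk x q) := by
      have h1 := congrArg (fun g : Spec (X.presheaf.stalk x) ⟶ Y => g q) (Scheme.SpecMap_stalkMap_fromSpecStalk f (x := x))
      simp only [Scheme.Hom.comp_apply] at h1
      exact h1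
    obtain ⟨y', hy', hne⟩ := exists_ne_specializes hT' (⟨_, hq, rfl⟩ : f (X.fromSpecStalk x q) ∈ f '' T)
    have hfx : f (X.fromSpecStalk x q) ⤳ f x := by
      have hs : X.fromSpecStalk x q ⤳ x := (Scheme.range_fromSpecStalk (X := X) (x := x)).le ⟨q, rfl⟩
      exact hs.map f.continuous
    obtain ⟨r, hr⟩ : y' ∈ Set.range (Y.fromSpecStalk (f x)) := by
      rw [Scheme.range_fromSpecStalk]; exact hy'.trans hfx
    have hle : r.asIdeal ≤ (PrimeSpectrum.comap (f.stalkMap x).hom q).asIdeal := by
      refine (PrimeSpectrum.le_iff_specializes _ _).2 ((Y.fromSpecStalk (f x)).isEmbedding.isInducing.specializes_iff.1 ?_)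
      rw [hr, hfq]
      exact hy'
    refine hne ?_
    rw [← hr, ← hfq]
    congr 1
    refine PrimeSpectrum.ext (le_antisymm hle (h.le.trans fun a ha => ?_))
    obtain ⟨n, hn⟩ := mem_nilradical.1 ha
    exact r.2.mem_of_pow_mem n (hn ▸ zero_mem _)
  have hlocal : ∀ x : X, _root_.IsConnected ((X.fromSpecStalk x) ⁻¹' Tᶜ) := by
    intro x
    letI := (f.stalkMap x).hom.toAlgebra
    haveI : IsLocalHom (algebraMap (Y.presheaf.stalk (f x)) (X.presheaf.stalk x)) := f.toLRSHom.prop x
    haveI : Module.Flat (Y.presheaf.stalk (f x)) (X.presheaf.stalk x) := Flat.stalkMap f x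
    exact isConnected_compl (hY (f x)) (fun L _ _ => isReduced_stalk_tensor f x L) _
      (hT.preimage (X.fromSpecStalk x).continuous) (hmiss x)
  have hgen : ∀ x ∈ T, ∃ d : X, d ⤳ x ∧ d ∉ T := fun x _ => by
    obtain ⟨q, hq⟩ := (hlocal x).1
    exact ⟨X.fromSpecStalk x q, (Scheme.range_fromSpecStalk (X := X) (x := x)).le ⟨q, rfl⟩, hq⟩
  refine ⟨?_, isPreconnected_compl_of_local hT hgen fun x _ => (hlocal x).2⟩
  obtain ⟨x⟩ := (inferInstance : Nonempty X)
  obtain ⟨q, hq⟩ := (hlocal x).1
  exact ⟨_, hq⟩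

end Groth.Agent.UnibranchConn
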