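import Mathlib
import Groth.Agent.UnibranchConn.Global
import Groth.Agent.GrSegreLib.Dim

/-!
# Connectedness of complements of closed fibres over geometrically unibranch rings of dimension at least two
-/

set_option autoImplicit false
set_option linter.style.haveILetI false
set_option backward.isDefEq.respectTransparency false

universe u

open TensorProduct IsLocalRing CategoryTheory CategoryTheory.Limits AlgebraicGeometry TopologicalSpace Topology

namespace Groth.Agent.UnibranchConn

variable {A B : Type u} [CommRing A] [CommRing B] [Algebra A B]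

/-- The idempotent of a clopen subset. -/
theorem exists_idempotent_of_clopen {R : Type u} [CommRing R] (s : Set (PrimeSpectrum R)) (hs : IsClopen s) :
    ∃ e : R, IsIdempotentElem e ∧ ∀ p : PrimeSpectrum R, p ∈ s ↔ e ∉ p.asIdeal := by
  obtain ⟨e, he, rfl⟩ := PrimeSpectrum.isClopen_iff.1 hs
  exact ⟨e, he, fun _ => Iff.rfl⟩

/-- In a flat local algebra over a geometrically unibranch ring of dimension at least two, the complement of the
closed fibre is connected. -/
theorem isConnected_punctured [IsLocalRing A] [IsNoetherianRing A] [IsDomain A] [IsLocalRing B]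
    [IsLocalHom (algebraMap A B)] [Module.Flat A B] (hA : CAlg2.IsGeomUnibranch A) (hdim : 2 ≤ ringKrullDim A) :
    _root_.IsConnected {q : PrimeSpectrum B | ¬ maximalIdeal A ≤ (PrimeSpectrum.comap (algebraMap A B) q).asIdeal} := by
  classical
  haveI hlocN := isLocalRing_tensor_normRed (B := B) hA
  obtain ⟨⟨hdom, hNloc⟩, -⟩ := hA
  haveI := hdom
  haveI := hNloc
  let U := {q : PrimeSpectrum B | ¬ maximalIdeal A ≤ (PrimeSpectrum.comap (algebraMap A B) q).asIdeal}
  let R := CAlg2.red A
  let K := FractionRing R
  haveI : IsLocalRing R := IsLocalRing.of_surjective' (Ideal.Quotient.mk (nilradical A)) Ideal.Quotient.mk_surjective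
  have hnil : nilradical A = ⊥ := nilradical_eq_bot_iff.2 inferInstance
  have hdimR : 2 ≤ ringKrullDim R := by
    rw [ringKrullDim_eq_of_ringEquiv ((Ideal.quotEquivOfEq hnil).trans (RingEquiv.quotientBot A))]
    exact hdim
  have hmax : maximalIdeal A ≠ ⊥ := by
    intro h
    have hF : IsField A := (IsLocalRing.isField_iff_maximalIdeal_eq).2 h
    rw [ringKrullDim_eq_zero_of_isField hF] at hdim
    exact absurd hdim (by decide)
  have hrange := range_comap_generic (A := A) (B := B) hdom
  let g := PrimeSpectrum.comap (algebraMap B (B ⊗[A] K))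
  have hgU : ∀ x, g x ∈ U := fun x hle => by
    have h : (PrimeSpectrum.comap (algebraMap A B) (g x)).asIdeal = nilradical A := hrange.le ⟨x, rfl⟩
    rw [h, hnil, le_bot_iff] at hle
    exact hmax hle
  -- every point generalises into the generic fibre
  have hgen : ∀ q : PrimeSpectrum B, ∃ x, g x ⤳ q := by
    intro q
    haveI : q.asIdeal.LiesOver (PrimeSpectrum.comap (algebraMap A B) q).asIdeal := ⟨rfl⟩
    haveI : (nilradical A).IsPrime := (Ideal.Quotient.isDomain_iff_prime _).1 hdom
    obtain ⟨P, hP, hPp, hPover⟩ := Ideal.exists_ideal_le_liesOver_of_le (p := nilradical A)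
      (q := (PrimeSpectrum.comap (algebraMap A B) q).asIdeal) q.asIdeal
      (hnil.le.trans bot_le)
    obtain ⟨x, hx⟩ := hrange.ge (show (⟨P, hPp⟩ : PrimeSpectrum B) ∈ _ from hPover.over.symm)
    refine ⟨x, ?_⟩
    rw [show g x = (⟨P, hPp⟩ : PrimeSpectrum B) from hx]
    exact (PrimeSpectrum.le_iff_specializes ⟨P, hPp⟩ q).1 hP
  refine ⟨?_, ?_⟩
  · haveI : Module.FaithfullyFlat A B := Module.FaithfullyFlat.of_flat_of_isLocalHom
    obtain ⟨q, hq⟩ := PrimeSpectrum.comap_surjective_of_faithfullyFlat (A := A) (B := B) ⟨⊥, Ideal.isPrime_bot⟩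
    exact ⟨q, fun h => hmax (le_bot_iff.1 (h.trans (congrArg PrimeSpectrum.asIdeal hq).le))⟩
  rw [isPreconnected_iff_subset_of_disjoint]
  intro u v hu hv huv hdis
  have hcl : IsClopen (g ⁻¹' u) := by
    refine ⟨⟨?_⟩, hu.preimage (PrimeSpectrum.continuous_comap _)⟩
    rw [show (g ⁻¹' u)ᶜ = g ⁻¹' v from ?_]
    · exact hv.preimage (PrimeSpectrum.continuous_comap _)
    ext x
    exact ⟨fun hx => (huv (hgU x)).resolve_left hx,
      fun hx hxu => Set.eq_empty_iff_forall_notMem.1 hdis _ ⟨hgU x, hxu, hx⟩⟩
  obtain ⟨e, he, hes⟩ := exists_idempotent_of_clopen _ hcl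
  have hmem := mem_range_of_forall_valuation (R := R) e fun C hC p hp hp1 V _ hV algV towV => by
    haveI := hC
    haveI := hp
    letI := algV
    haveI := towV
    haveI : FaithfulSMul R C := (faithfulSMul_iff_algebraMap_injective _ _).2 fun a b h =>
      IsFractionRing.injective R K (congrArg Subtype.val h)
    haveI : Algebra.IsIntegral R C := Algebra.IsIntegral.of_finite R C
    have hCN : C ≤ integralClosure R K := fun x hx =>
      (Algebra.IsIntegral.isIntegral (R := R) (⟨x, hx⟩ : C)).map C.val
    have hp0 : p.comap (algebraMap R C) ≠ maximalIdeal R := by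
      intro h
      haveI : p.IsMaximal := Ideal.isMaximal_of_isIntegral_of_isMaximal_comap p (h ▸ maximalIdeal.isMaximal R)
      letI : Algebra C (integralClosure R K) := (Subalgebra.inclusion hCN).toRingHom.toAlgebra
      haveI : IsScalarTower R C (integralClosure R K) := .of_algebraMap_eq fun _ => rfl
      haveI : Algebra.IsIntegral C (integralClosure R K) := Algebra.IsIntegral.tower_top R
      have hinj : Function.Injective (algebraMap C (integralClosure R K)) := Subalgebra.inclusion_injective hCN
      haveI : FaithfulSMul C (integralClosure R K) := (faithfulSMul_iff_algebraMap_injective _ _).2 hinj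
      haveI hNl : IsLocalRing (integralClosure R K) := hNloc
      have huniq : ∀ m : Ideal C, m.IsMaximal → m = (maximalIdeal (integralClosure R K)).comap (algebraMap C _) := by
        intro m hm
        obtain ⟨M, hM, hMover⟩ := Ideal.exists_ideal_over_maximal_of_isIntegral (S := integralClosure R K) m
          (by rw [(RingHom.injective_iff_ker_eq_bot _).1 hinj]; exact bot_le)
        rw [← hMover, IsLocalRing.eq_maximalIdeal hM]
      haveI : IsLocalRing C := .of_unique_max_ideal ⟨p, ‹p.IsMaximal›, fun m hm => (huniq m hm).trans (huniq p ‹_›).symm⟩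
      have hCd : ringKrullDim C = 1 := by
        rw [← IsLocalRing.maximalIdeal_height_eq_ringKrullDim, ← IsLocalRing.eq_maximalIdeal ‹p.IsMaximal›, hp1]
        rfl
      have hR1 : ringKrullDim R ≤ 1 := by
        refine le_trans ?_ hCd.le
        exact (GrSegreLib.ringKrullDim_eq_of_integral_injective (algebraMap R C)
          ((faithfulSMul_iff_algebraMap_injective R C).1 inferInstance) (fun x => Algebra.IsIntegral.isIntegral x)).le
      exact absurd (hdimR.trans hR1) (by decide)
    obtain ⟨a, ha, hap⟩ : ∃ a ∈ maximalIdeal R, algebraMap R C a ∉ p := by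
      by_contra hcon
      push_neg at hcon
      haveI : (p.comap (algebraMap R C)).IsPrime := Ideal.IsPrime.comap _
      exact hp0 (le_antisymm (le_maximalIdeal (Ideal.IsPrime.ne_top inferInstance)) fun a ha => hcon a ha)
    obtain ⟨a, rfl⟩ := Ideal.Quotient.mk_surjective a
    have haA : a ∈ maximalIdeal A := fun hu => ha (hu.map (Ideal.Quotient.mk (nilradical A)))
    have haK : algebraMap A K a ≠ 0 := by
      rw [IsScalarTower.algebraMap_apply A R K, map_ne_zero_iff _ (IsFractionRing.injective R K)]
      intro h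
      exact hap (by rw [show (Ideal.Quotient.mk (nilradical A) a : R) = 0 from h, map_zero]; exact zero_mem _)
    have haV : IsUnit (algebraMap A V a) := by
      have hinv : (algebraMap A K a)⁻¹ ∈ V := by
        refine hV _ ⟨algebraMap R C (Ideal.Quotient.mk (nilradical A) a), hap, ?_⟩
        rw [show ((algebraMap R C (Ideal.Quotient.mk (nilradical A) a) : C) : K) = algebraMap A K a from
          (IsScalarTower.algebraMap_apply A R K a).symm, mul_inv_cancel₀ haK]
        exact isIntegral_one
      refine IsUnit.of_mul_eq_one ⟨_, hinv⟩ (Subtype.ext ?_)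
      show ((algebraMap A V a : V) : K) * _ = 1
      rw [show ((algebraMap A V a : V) : K) = algebraMap A K a from (IsScalarTower.algebraMap_apply A V K a).symm,
        mul_inv_cancel₀ haK]
    -- the idempotent over the open set where `a` is invertible
    let Aa := Localization.Away a
    let κ : Aa →ₐ[A] V :=
      { IsLocalization.Away.lift (R := A) a haV with
        commutes' := fun c => IsLocalization.Away.lift_eq a haV c }
    let toB := algebraMap B (B ⊗[A] Aa)
    have hU : ∀ x : PrimeSpectrum (B ⊗[A] Aa), PrimeSpectrum.comap toB x ∈ U := fun x hle => by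
      have h1 : algebraMap B (B ⊗[A] Aa) (algebraMap A B a) ∈ x.asIdeal := hle haA
      rw [← IsScalarTower.algebraMap_apply A B (B ⊗[A] Aa),
        ← (Algebra.TensorProduct.includeRight : Aa →ₐ[A] B ⊗[A] Aa).commutes a] at h1
      exact x.2.ne_top (Ideal.eq_top_of_isUnit_mem _ h1
        ((IsLocalization.Away.algebraMap_isUnit a).map (Algebra.TensorProduct.includeRight : Aa →ₐ[A] B ⊗[A] Aa)))
    have hcla : IsClopen (PrimeSpectrum.comap toB ⁻¹' u) := by
      refine ⟨⟨?_⟩, hu.preimage (PrimeSpectrum.continuous_comap _)⟩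
      rw [show (PrimeSpectrum.comap toB ⁻¹' u)ᶜ = PrimeSpectrum.comap toB ⁻¹' v from ?_]
      · exact hv.preimage (PrimeSpectrum.continuous_comap _)
      ext x
      exact ⟨fun hx => (huv (hU x)).resolve_left hx,
        fun hx hxu => Set.eq_empty_iff_forall_notMem.1 hdis _ ⟨hU x, hxu, hx⟩⟩
    obtain ⟨ea, hea, heas⟩ := exists_idempotent_of_clopen _ hcla
    let ψ := Algebra.TensorProduct.map (AlgHom.id A B) ((IsScalarTower.toAlgHom A V K).comp κ)
    refine ⟨Algebra.TensorProduct.map (AlgHom.id A B) κ ea, ?_⟩
    have hψ : ψ ea = Algebra.TensorProduct.map (AlgHom.id A B) (IsScalarTower.toAlgHom A V K)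
        (Algebra.TensorProduct.map (AlgHom.id A B) κ ea) := by
      rw [← AlgHom.comp_apply, ← Algebra.TensorProduct.map_comp]; rfl
    refine hψ.symm.trans ?_
    refine PrimeSpectrum.basicOpen_injOn_isIdempotentElem (hea.map ψ) he (TopologicalSpace.Opens.ext (Set.ext fun x => ?_))
    refine Iff.trans ?_ (hes x)
    show ψ ea ∉ x.asIdeal ↔ _
    refine Iff.trans (heas (PrimeSpectrum.comap ψ.toRingHom x)).symm ?_
    show PrimeSpectrum.comap toB (PrimeSpectrum.comap ψ.toRingHom x) ∈ u ↔ g x ∈ u
    rw [← PrimeSpectrum.comap_comp_apply]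
    have hc : ψ.toRingHom.comp toB = algebraMap B (B ⊗[A] K) := by
      ext b
      show ψ (b ⊗ₜ 1) = b ⊗ₜ 1
      simp [ψ]
    rw [hc]
  obtain ⟨d, hd⟩ := hmem
  let j := Algebra.TensorProduct.map (AlgHom.id A B) ((integralClosure R K).val.restrictScalars A)
  have hj : Function.Injective j :=
    Module.Flat.lTensor_preserves_injective_linearMap (M := B)
      ((integralClosure R K).val.restrictScalars A).toLinearMap Subtype.val_injective
  haveI : IsLocalRing (B ⊗[A] integralClosure R K) := hlocN
  have hd2 : d * d = d := hj (by rw [map_mul]; show j d * j d = j d; rw [show j d = e from hd]; exact he.eq)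
  rcases IsLocalRing.isUnit_or_isUnit_one_sub_self d with h | h
  · left
    have hd1 : d = 1 := h.mul_right_cancel (by rw [hd2, one_mul])
    have he1 : e = 1 := by rw [← hd]; show j d = 1; rw [hd1, map_one]
    intro q hq
    refine (huv hq).resolve_right fun hqv => ?_
    obtain ⟨x, hx⟩ := hgen q
    have hxu : g x ∈ u := (hes x).2 (fun h1 => x.2.ne_top ((Ideal.eq_top_iff_one _).2 (he1 ▸ h1)))
    exact Set.eq_empty_iff_forall_notMem.1 hdis _ ⟨hgU x, hxu, hx.mem_open hv hqv⟩
  · right
    have hd0 : d = 0 := h.mul_left_eq_zero.1 (by rw [mul_sub, mul_one, hd2, sub_self])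
    have he0 : e = 0 := by rw [← hd]; show j d = 0; rw [hd0, map_zero]
    intro q hq
    refine (huv hq).resolve_left fun hqu => ?_
    obtain ⟨x, hx⟩ := hgen q
    exact (hes x).1 (hx.mem_open hu hqu) (he0 ▸ zero_mem _)

/-- Flat morphisms to a geometrically unibranch local scheme of dimension at least two: complements of closed
subsets of the closed fibre are connected. -/
theorem isConnected_compl_closedFibre [IsNoetherianRing A] [IsLocalRing A] [IsDomain A] (hA : CAlg2.IsGeomUnibranch A)
    (hdim : 2 ≤ ringKrullDim A) {X : Scheme.{u}} [IsLocallyNoetherian X] [ConnectedSpace ↥X]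
    (f : X ⟶ Spec (CommRingCat.of A)) [Flat f] (T : Set ↥X) (hT : IsClosed T)
    (hTy : ∀ x ∈ T, f x = closedPoint A) : _root_.IsConnected Tᶜ := by
  have hlocal : ∀ x ∈ T, _root_.IsConnected ((X.fromSpecStalk x) ⁻¹' Tᶜ) := by
    intro x hx
    haveI : Flat (X.fromSpecStalk x) := GeomRedPtLib.flat_fromSpecStalk' x
    let φ := Spec.preimage (X.fromSpecStalk x ≫ f)
    letI : Algebra A (X.presheaf.stalk x) := φ.hom.toAlgebra
    have hφ : Spec.map φ = X.fromSpecStalk x ≫ f := Spec.map_preimage _
    haveI : Module.Flat A (X.presheaf.stalk x) := by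
      have h : φ.hom.Flat := (HasRingHomProperty.Spec_iff (P := @Flat)).1 (by rw [hφ]; infer_instance)
      exact RingHom.flat_algebraMap_iff.1 h
    haveI : IsLocalHom (algebraMap A (X.presheaf.stalk x)) := by
      refine ((IsLocalRing.local_hom_TFAE (algebraMap A (X.presheaf.stalk x))).out 0 4).2 ?_
      have h : (Spec.map φ) (closedPoint (X.presheaf.stalk x)) = closedPoint A := by
        rw [hφ, Scheme.Hom.comp_apply]
        exact (congrArg f Scheme.fromSpecStalk_closedPoint).trans (hTy x hx)
      exact congrArg PrimeSpectrum.asIdeal h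
    obtain ⟨hne, hpre⟩ := isConnected_punctured (B := X.presheaf.stalk x) hA hdim
    refine IsConnected.subset_closure ⟨hne, hpre⟩ ?_ ?_
    · intro q hq hqT
      refine hq ?_
      have h : f (X.fromSpecStalk x q) = closedPoint A := hTy _ hqT
      rw [← Scheme.Hom.comp_apply, ← hφ] at h
      exact (congrArg PrimeSpectrum.asIdeal h).ge
    · intro q _
      haveI : q.asIdeal.LiesOver (PrimeSpectrum.comap (algebraMap A (X.presheaf.stalk x)) q).asIdeal := ⟨rfl⟩
      obtain ⟨P, hP, hPp, hPover⟩ := Ideal.exists_ideal_le_liesOver_of_le (p := (⊥ : Ideal A))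
        (q := (PrimeSpectrum.comap (algebraMap A (X.presheaf.stalk x)) q).asIdeal) q.asIdeal bot_le
      refine closure_mono (Set.singleton_subset_iff.2 ?_)
        ((PrimeSpectrum.le_iff_specializes ⟨P, hPp⟩ q).1 hP).mem_closure
      intro hle
      rw [show (PrimeSpectrum.comap (algebraMap A (X.presheaf.stalk x)) ⟨P, hPp⟩).asIdeal = ⊥ from hPover.over.symm,
        le_bot_iff] at hle
      have hF : IsField A := IsLocalRing.isField_iff_maximalIdeal_eq.2 hle
      rw [ringKrullDim_eq_zero_of_isField hF] at hdim
      exact absurd hdim (by decide)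
  have hgen : ∀ x ∈ T, ∃ d : X, d ⤳ x ∧ d ∉ T := fun x hx => by
    obtain ⟨q, hq⟩ := (hlocal x hx).1
    exact ⟨X.fromSpecStalk x q, (Scheme.range_fromSpecStalk (X := X) (x := x)).le ⟨q, rfl⟩, hq⟩
  refine ⟨?_, isPreconnected_compl_of_local hT hgen fun x hx => (hlocal x hx).2⟩
  obtain ⟨x⟩ := (inferInstance : Nonempty X)
  by_cases hx : x ∈ T
  · obtain ⟨d, -, hd⟩ := hgen x hx
    exact ⟨d, hd⟩
  · exact ⟨x, hx⟩

end Groth.Agent.UnibranchConn
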